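import Mathlib
import Groth.Agent.BorelLib.MaxTor
import Groth.Agent.BorelLib.MaxTorGeom
import Groth.Agent.BorelLib.RedTorus
import Groth.Agent.BorelLib.Image
import Groth.Agent.RedRankLib.Tori
import Groth.Agent.ImgTorusLib.Global
import Groth.Agent.HMProjLib.TorusMu

/-!
# One-parameter subgroups and the torus
-/

set_option autoImplicit false
set_option backward.isDefEq.respectTransparency false
set_option synthInstance.maxHeartbeats 400000
set_option maxHeartbeats 1000000
set_option linter.style.haveILetI false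
set_option linter.unusedSectionVars false

universe u

open CategoryTheory CategoryTheory.Limits MonoidalCategory CartesianMonoidalCategory AlgebraicGeometry

noncomputable section


namespace Groth.Agent.GitBoundLib

open scoped MonObj
open BorelLib

attribute [local instance] BorelLib.pTop BorelLib.pTopTensor

variable {k : Type u} [Field k] [IsAlgClosed k]

theorem isTorus_gm : Red.IsTorus (Red.Gm (Spec (CommRingCat.of k))) := by
  haveI : AddGroup.FG ℤ := Module.Finite.iff_addGroup_fg.1 inferInstance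
  obtain ⟨E⟩ := ImgTorus.nonempty_DS_iso (Spec (CommRingCat.of k)) (LinearEquiv.funUnique (Fin 1) ℤ ℤ).toAddEquiv
  let e : Red.DS (Spec (CommRingCat.of k)) (Fin 1 → ℤ) ≅ Red.Gm (Spec (CommRingCat.of k)) :=
    (Grp.forget _).mapIso E
  haveI : IsMonHom e.hom := E.hom.hom.isMonHom_hom
  haveI : IsMonHom e.symm.hom := inferInstanceAs (IsMonHom e.inv)
  exact RedRank.isTorus_of_iso e.symm (RedRank.isTorus_DS _ 1)

/-- A one-parameter subgroup is conjugate to one of a given maximal torus. -/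
theorem exists_conj_torus (G : Over (Spec (CommRingCat.of k))) [GrpObj G] (hG : Red.IsReductive G)
    {T : Over (Spec (CommRingCat.of k))} [GrpObj T] (i : T ⟶ G) [IsMonHom i] (hi : Red.IsMaximalTorus i)
    (l : Red.Gm (Spec (CommRingCat.of k)) ⟶ G) [IsMonHom l] :
    ∃ (g : 𝟙_ (Over (Spec (CommRingCat.of k))) ⟶ G) (l₀ : Red.Gm (Spec (CommRingCat.of k)) ⟶ T),
      IsMonHom l₀ ∧ l = (toUnit _ ≫ g) * (l₀ ≫ i) * (toUnit _ ≫ g)⁻¹ := by
  let s : ↥(Spec (CommRingCat.of k)) := IsLocalRing.closedPoint k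
  obtain ⟨haff, hsm, hcon, -⟩ := reductive_data s hG
  haveI := haff; haveI := hsm; haveI := hcon
  obtain ⟨A, _, _, v, hv, hA, -⟩ := exists_setup G
  haveI := hv; haveI := hA
  haveI : LocallyOfFiniteType G.hom := inferInstance
  have hT := isMaxTorus_of_isMaximalTorus (iT := i) hi
  haveI : Mono i := hi.2.1
  obtain ⟨hTc, hTs, -, hTl⟩ := subtorus_facts s i hi.2.2.1
  haveI := hTc; haveI := hTs; haveI := hTl
  -- the multiplicative group
  obtain ⟨-, w₀, -, -, hgred, -, hgl, hga⟩ := torus_facts (isTorus_gm (k := k))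
  haveI := hgred; haveI := hgl; haveI := hga
  obtain ⟨hgs, hgc⟩ := AlbLib.smooth_connected_of_isTorus (isTorus_gm (k := k))
  haveI := hgs; haveI := hgc
  obtain ⟨A', _, _, w, hw, hA', -⟩ := exists_setup (Red.Gm (Spec (CommRingCat.of k)))
  haveI := hw; haveI := hA'
  obtain ⟨ψ, f, hf, hrange, -⟩ := exists_hom_pull v w l
  have htop : (ptsSub w (𝟙 (Red.Gm (Spec (CommRingCat.of k))))) = ⊤ :=
    eq_top_iff.2 fun x _ => (mem_ptsSub w).2 ⟨ptEquiv w x, Category.comp_id _⟩
  have htor : IsTor (⊤ : Subgroup (Pt k A')) := htop ▸ isTor_ptsSub w (𝟙 _) isTorus_gm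
  have himg : IsTor (ptsSub v l) := by
    have := htor.map (f := f) ⟨ψ, hf⟩
    rwa [← MonoidHom.range_eq_map, hrange] at this
  have hKc : IsClosed ((⊤ : Subgroup (Pt k A)) : Set (Pt k A)) := by
    rw [Subgroup.coe_top]; exact isClosed_univ
  have hK : IsPreconnected ((⊤ : Subgroup (Pt k A)) : Set (Pt k A)) := by
    rw [Subgroup.coe_top]; exact isPreconnected_univ_of_connected v
  obtain ⟨S, -, hS, hu⟩ := exists_universal_tor_group hKc hK
  obtain ⟨c, -, hc⟩ := hu _ le_top himg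
  obtain ⟨d, -, hd⟩ := hu _ le_top (isTor_ptsSub v i hi.2.2.1)
  have hSeq : ptsSub v i = conjSub d⁻¹ S := by
    refine eq_of_isMaxTorus v hT (hS.conjSub _) ?_
    have := conjSub_mono (a := d⁻¹) hd
    rwa [conjSub_conjSub, inv_mul_cancel, conjSub_one] at this
  have hle : conjSub (d⁻¹ * c) (ptsSub v l) ≤ ptsSub v i := by
    rw [← conjSub_conjSub, hSeq]
    exact conjSub_mono hc
  let cj := ptEquiv v (d⁻¹ * c)
  have hmon : IsMonHom (AGF.conjBy cj l) := by
    haveI := DiagRep.isMonHom_conjBy cj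
    rw [DiagRep.conjBy_eq_comp cj l]
    infer_instance
  haveI := hmon
  obtain ⟨l₀, hl₀⟩ := exists_factor_of_le v (i := AGF.conjBy cj l) (i' := i)
    ((ptsSub_conjBy v (d⁻¹ * c)).le.trans hle)
  refine ⟨cj⁻¹, l₀, ?_, ?_⟩
  · haveI : IsMonHom (l₀ ≫ i) := by rw [hl₀]; exact hmon
    exact DiagRep.isMonHom_of_comp_mono l₀ i
  · rw [hl₀, AGF.conjBy, GrpObj.comp_inv]
    group

section Quadratic

open scoped BigOperators

/-- A rational linear functional is bounded by a positive definite rational form. -/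
theorem exists_sq_bound {M : Type*} [AddCommGroup M] [Module.Free ℤ M] [Module.Finite ℤ M]
    (β : M →+ M →+ ℚ) (hsymm : ∀ x y, β x y = β y x) (hpos : ∀ x, x ≠ 0 → 0 < β x x) (f : M →+ ℚ) :
    ∃ C : ℚ, 0 ≤ C ∧ ∀ x, f x ^ 2 ≤ C * β x x := by
  classical
  let bs := Module.Free.chooseBasis ℤ M
  let κ := Module.Free.ChooseBasisIndex ℤ M
  let e : κ → M := fun a => bs a
  let ζ : M → κ → ℚ := fun x a => (bs.repr x a : ℚ)
  let B : LinearMap.BilinForm ℚ (κ → ℚ) := Matrix.toBilin' (Matrix.of fun a c => β (e a) (e c))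
  let F : (κ → ℚ) →ₗ[ℚ] ℚ :=
    ∑ a, f (e a) • (LinearMap.proj a : (κ → ℚ) →ₗ[ℚ] ℚ)
  have hB : ∀ x y, B (ζ x) (ζ y) = β x y := by
    intro x y
    conv_rhs => rw [← bs.sum_repr x, ← bs.sum_repr y]
    simp only [map_sum, map_zsmul, AddMonoidHom.finsetSum_apply, AddMonoidHom.coe_smul, Pi.smul_apply,
      zsmul_eq_mul, B, Matrix.toBilin'_apply, Matrix.of_apply, ζ, Finset.mul_sum]
    rw [Finset.sum_comm]
    refine Finset.sum_congr rfl fun a _ => Finset.sum_congr rfl fun c _ => ?_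
    simp only [e]
    first
      | ring
      | rw [hsymm]; ring
  have hF : ∀ x, F (ζ x) = f x := by
    intro x
    simp only [F, LinearMap.sum_apply, LinearMap.smul_apply, LinearMap.coe_proj, Function.eval,
      smul_eq_mul, ζ, e]
    conv_rhs => rw [← bs.sum_repr x, map_sum]
    refine Finset.sum_congr rfl fun a _ => ?_
    rw [map_zsmul, zsmul_eq_mul, mul_comm]
  have hBpos : ∀ v, v ≠ 0 → 0 < B v v := by
    intro v hv
    obtain ⟨⟨N, hN⟩, hNv⟩ := IsLocalization.exist_integer_multiples_of_finset (nonZeroDivisors ℤ)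
      (Finset.univ.image v)
    have hint : ∀ a, ∃ z : ℤ, (N : ℚ) * v a = (z : ℚ) := fun a => by
      obtain ⟨z, hz⟩ := hNv (v a) (Finset.mem_image_of_mem _ (Finset.mem_univ a))
      exact ⟨z, by simpa [Algebra.smul_def] using hz.symm⟩
    choose z hz using hint
    have hN0 : (N : ℚ) ≠ 0 := by exact_mod_cast nonZeroDivisors.ne_zero hN
    let x : M := ∑ a, z a • e a
    have hx : ζ x = (N : ℚ) • v := by
      funext a
      simp [ζ, x, e, hz, map_sum, map_zsmul, Finsupp.finsetSum_apply, Finsupp.single_apply]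
    have hx0 : x ≠ 0 := fun h => hv (by
      have : (N : ℚ) • v = 0 := by rw [← hx, h]; funext a; simp [ζ]
      exact (smul_eq_zero.mp this).resolve_left hN0)
    have h := hpos x hx0
    rw [← hB, hx] at h
    simp only [map_smul, LinearMap.smul_apply, smul_eq_mul, ← mul_assoc] at h
    exact (mul_pos_iff.mp h).elim (fun h' => h'.2) fun h' => absurd h'.1 (not_lt.mpr (mul_self_nonneg _))
  have hinj : Function.Injective B := by
    refine (injective_iff_map_eq_zero B).mpr fun v hv => ?_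
    by_contra h
    have := hBpos v h
    rw [hv] at this
    exact lt_irrefl _ this
  have hsurj : Function.Surjective B :=
    (LinearMap.injective_iff_surjective_of_finrank_eq_finrank
      (Subspace.dual_finrank_eq (K := ℚ) (V := κ → ℚ)).symm).mp hinj
  obtain ⟨w, hw⟩ := hsurj F
  refine ⟨B w w, ?_, fun x => ?_⟩
  · by_cases h : w = 0
    · simp [h]
    · exact (hBpos w h).le
  · have hnn : ∀ v, 0 ≤ B v v := fun v => by
      by_cases h : v = 0
      · simp [h]
      · exact (hBpos v h).le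
    have hBs : ∀ v v', B v v' = B v' v := fun v v' => by
      simp only [B, Matrix.toBilin'_apply, Matrix.of_apply]
      rw [Finset.sum_comm]
      refine Finset.sum_congr rfl fun a _ => Finset.sum_congr rfl fun c _ => ?_
      rw [hsymm]
      ring
    rw [← hB, ← hF, ← hw]
    have h2 := hnn ((B (ζ x) (ζ x)) • w - (B w (ζ x)) • ζ x)
    simp only [map_sub, map_smul, LinearMap.sub_apply, LinearMap.smul_apply, smul_eq_mul, hBs (ζ x) w] at h2
    rcases (hnn (ζ x)).eq_or_lt with h0 | h0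
    · have hz : ζ x = 0 := by
        by_contra h
        exact absurd h0.symm (hBpos _ h).ne'
      simp [hz]
    · nlinarith

end Quadratic

/-- The bound for a commutative subgroup with finitely many separating integer degrees. -/
theorem sq_bound_subgroup {P : Type*} [Group P] (S : Subgroup P)
    (hc : ∀ x ∈ S, ∀ y ∈ S, x * y = y * x) {C : Type*} [Finite C] (d : P → C → ℤ)
    (hd : ∀ x ∈ S, ∀ y ∈ S, ∀ c, d (x * y) c = d x c + d y c)
    (hinj : ∀ x ∈ S, ∀ y ∈ S, (∀ c, d x c = d y c) → x = y)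
    (b : P → P → ℚ) (hb : ∀ x ∈ S, ∀ y ∈ S, ∀ z ∈ S, b (x * y) z = b x z + b y z)
    (hbs : ∀ x ∈ S, ∀ y ∈ S, b x y = b y x) (hbp : ∀ x ∈ S, x ≠ 1 → 0 < b x x)
    (f : P → ℚ) (hf : ∀ x ∈ S, ∀ y ∈ S, f (x * y) = f x + f y) :
    ∃ K : ℚ, 0 ≤ K ∧ ∀ x ∈ S, f x ^ 2 ≤ K * b x x := by
  letI : CommGroup S :=
    { (inferInstance : Group S) with mul_comm := fun x y => Subtype.ext (hc x x.2 y y.2) }
  let ψ : Additive S →ₗ[ℤ] (C → ℤ) :=
    (AddMonoidHom.mk' (fun x => d x.toMul.1) fun x y =>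
      funext fun c => hd _ x.toMul.2 _ y.toMul.2 c).toIntLinearMap
  have hψ : Function.Injective ψ := fun x y h =>
    Additive.toMul.injective (Subtype.ext (hinj _ x.toMul.2 _ y.toMul.2 fun c => congrFun h c))
  haveI : Module.Free ℤ (Additive S) :=
    Module.Free.of_equiv (LinearEquiv.ofInjective ψ hψ).symm
  haveI : Module.Finite ℤ (Additive S) :=
    Module.Finite.equiv (LinearEquiv.ofInjective ψ hψ).symm
  let β : Additive S →+ Additive S →+ ℚ :=
    AddMonoidHom.mk' (fun x => AddMonoidHom.mk' (fun y => b x.toMul.1 y.toMul.1) fun y z => by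
        show b _ (y.toMul.1 * z.toMul.1) = _
        rw [hbs _ x.toMul.2 _ (S.mul_mem y.toMul.2 z.toMul.2), hb _ y.toMul.2 _ z.toMul.2 _ x.toMul.2,
          hbs _ x.toMul.2 _ y.toMul.2, hbs _ x.toMul.2 _ z.toMul.2])
      fun x y => AddMonoidHom.ext fun z => hb _ x.toMul.2 _ y.toMul.2 _ z.toMul.2
  obtain ⟨K, hK, hle⟩ := exists_sq_bound β (fun x y => hbs _ x.toMul.2 _ y.toMul.2)
    (fun x hx => hbp _ x.toMul.2 fun h => hx (Additive.toMul.injective (Subtype.ext h)))
    (AddMonoidHom.mk' (fun x => f x.toMul.1) fun x y => hf _ x.toMul.2 _ y.toMul.2)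
  exact ⟨K, hK, fun x hx => hle (Additive.ofMul ⟨x, hx⟩)⟩

section Lattice

variable {T : Over (Spec (CommRingCat.of k))} [GrpObj T]

/-- One-parameter subgroups are determined by finitely many exponents. -/
theorem exists_separating (M : HMProjLib.Mono' T) [IsAffine T.left] [LocallyOfFiniteType T.hom] :
    ∃ C : Finset (ULift.{u} (Fin M.r → ℤ)), ∀ (l l' : Red.Gm (Spec (CommRingCat.of k)) ⟶ T) [IsMonHom l]
      [IsMonHom l'], (∀ c ∈ C, HMProjLib.deg M c l = HMProjLib.deg M c l') → l = l' := by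
  classical
  have hfin : (HMProjLib.cst T).FiniteType := by
    have h : (T.hom.appTop).hom.FiniteType :=
      HasRingHomProperty.appTop @LocallyOfFiniteType T.hom inferInstance
    have e : HMProjLib.cst T = (T.hom.appTop).hom.comp (Scheme.ΓSpecIso (CommRingCat.of k)).inv.hom := by
      ext c
      show T.hom.appLE ⊤ ⊤ le_top _ = T.hom.appTop _
      rw [Scheme.Hom.appTop, Scheme.Hom.app_eq_appLE]
      rfl
    rw [e]
    exact h.comp (RingHom.FiniteType.of_surjective _
      (ConcreteCategory.bijective_of_isIso (Scheme.ΓSpecIso (CommRingCat.of k)).inv).2)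
  letI : Algebra k Γ(T.left, ⊤) := (HMProjLib.cst T).toAlgebra
  obtain ⟨S, hS⟩ := (show Algebra.FiniteType k Γ(T.left, ⊤) from hfin).out
  choose q hq using M.span
  refine ⟨S.biUnion fun x => (q x).support, fun l l' _ _ h => ?_⟩
  have key : ∀ x ∈ S, HMProjLib.ev l x = HMProjLib.ev l' x := by
    intro x hx
    rw [hq x, HMProjLib.ev, HMProjLib.ev, map_finsuppSum, map_finsuppSum]
    refine Finsupp.sum_congr fun c hc => ?_
    rw [map_mul, map_mul]
    congr 1
    · exact (HMProjLib.ev_cst l _).trans (HMProjLib.ev_cst l' _).symm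
    · show HMProjLib.ev l (M.e c) = HMProjLib.ev l' (M.e c)
      rw [HMProjLib.deg_spec, HMProjLib.deg_spec, h c (Finset.mem_biUnion.mpr ⟨x, hx, hc⟩)]
  have happ : l.left.appTop = l'.left.appTop := by
    refine CommRingCat.hom_ext (RingHom.ext fun y => ?_)
    have hy : y ∈ Algebra.adjoin k (S : Set Γ(T.left, ⊤)) := hS ▸ Algebra.mem_top
    induction hy using Algebra.adjoin_induction with
    | mem y hy => exact key y hy
    | algebraMap c => exact (HMProjLib.ev_cst l c).trans (HMProjLib.ev_cst l' c).symm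
    | add y z _ _ hy hz => rw [map_add, map_add, hy, hz]
    | mul y z _ _ hy hz => rw [map_mul, map_mul, hy, hz]
  exact Over.OverMorphism.ext (ext_of_isAffine happ)

/-- An additive functional on one-parameter subgroups is bounded by a positive definite form. -/
theorem exists_sq_bound_cochar (hT : Red.IsTorus T)
    (hcomm : ∀ {X : Over (Spec (CommRingCat.of k))} (a b : X ⟶ T), a * b = b * a)
    (b : (Red.Gm (Spec (CommRingCat.of k)) ⟶ T) → (Red.Gm (Spec (CommRingCat.of k)) ⟶ T) → ℚ)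
    (hb_add : ∀ (l₁ l₂ l₃ : Red.Gm (Spec (CommRingCat.of k)) ⟶ T) [IsMonHom l₁] [IsMonHom l₂] [IsMonHom l₃],
      b (l₁ * l₂) l₃ = b l₁ l₃ + b l₂ l₃)
    (hb_symm : ∀ (l₁ l₂ : Red.Gm (Spec (CommRingCat.of k)) ⟶ T) [IsMonHom l₁] [IsMonHom l₂], b l₁ l₂ = b l₂ l₁)
    (hb_pos : ∀ (l : Red.Gm (Spec (CommRingCat.of k)) ⟶ T) [IsMonHom l], l ≠ 1 → 0 < b l l)
    (f : (Red.Gm (Spec (CommRingCat.of k)) ⟶ T) → ℚ)
    (hf : ∀ (l₁ l₂ : Red.Gm (Spec (CommRingCat.of k)) ⟶ T) [IsMonHom l₁] [IsMonHom l₂],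
      f (l₁ * l₂) = f l₁ + f l₂) :
    ∃ C : ℚ, 0 ≤ C ∧ ∀ (l : Red.Gm (Spec (CommRingCat.of k)) ⟶ T) [IsMonHom l], f l ^ 2 ≤ C * b l l := by
  obtain ⟨⟨M⟩, hA, -, hF⟩ := HMProjLib.exists_mono hT
  haveI := hA; haveI := hF
  haveI : IsCommMonObj T := isCommMonObj_iff_commutator_eq_toUnit_η.mpr (by
    rw [GrpObj.commutator, hcomm (fst T T) (snd T T)]
    simp [MonObj.one_eq_one])
  let H : Subgroup (Red.Gm (Spec (CommRingCat.of k)) ⟶ T) :=
    { carrier := {l | IsMonHom l}
      one_mem' := by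
        show IsMonHom (1 : Red.Gm (Spec (CommRingCat.of k)) ⟶ T)
        infer_instance
      mul_mem' := fun {a b} (ha : IsMonHom a) (hb : IsMonHom b) => by
        show IsMonHom (lift a b ≫ μ[T]); infer_instance
      inv_mem' := fun {a} (ha : IsMonHom a) => by show IsMonHom a⁻¹; infer_instance }
  obtain ⟨C, hC⟩ := exists_separating M
  obtain ⟨K, hK, hle⟩ := sq_bound_subgroup H (fun x _ y _ => hcomm x y)
    (fun l (c : C) => HMProjLib.deg M c.1 l)
    (fun x hx y hy c => by haveI : IsMonHom x := hx; haveI : IsMonHom y := hy; exact HMProjLib.deg_mul M c.1 x y)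
    (fun x hx y hy h => @hC x y hx hy fun c hc => h ⟨c, hc⟩)
    b (fun x hx y hy z hz => @hb_add x y z hx hy hz) (fun x hx y hy => @hb_symm x y hx hy)
    (fun x hx => @hb_pos x hx) f (fun x hx y hy => @hf x y hx hy)
  exact ⟨K, hK, fun l hl => hle l hl⟩

end Lattice

end Groth.Agent.GitBoundLib
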